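import Mathlib.GroupTheory.OrderOfElement
import Mathlib.Algebra.Group.Subgroup.Finite
import Mathlib.Data.Fintype.Prod
import Mathlib.Tactic.Group
import Mathlib.Data.Fin.VecNotation
import Mathlib.Tactic.FinCases

/-!
# A presentation of the involution centraliser of order 320 of `PSU(3, 4)`

`Data G` gives seven elements satisfying the relations; any two groups of order 320 in which
the normal form `Data.word` is surjective are isomorphic.
-/

set_option autoImplicit false

namespace CfsgLib.ThreeTwenty

variable {G : Type*} [Group G]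

/-- Seven elements satisfying the relations. -/
structure Data (G : Type*) [Group G] where
  /-- first generator -/
  v0 : G
  /-- second generator -/
  v1 : G
  /-- third generator -/
  v2 : G
  /-- fourth generator -/
  v3 : G
  /-- first central involution -/
  z1 : G
  /-- second central involution -/
  z2 : G
  /-- the element of order five -/
  x : G
  comm1 : ∀ u ∈ [v0, v1, v2, v3, z2, x], z1 * u = u * z1
  comm2 : ∀ u ∈ [v0, v1, v2, v3, z1, x], z2 * u = u * z2
  z1_sq : z1 * z1 = 1
  z2_sq : z2 * z2 = 1
  v_sq : ∀ u ∈ [v0, v1, v2, v3], u * u = z1 * z2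
  r10 : v1 * v0 = v0 * v1 * z1
  r20 : v2 * v0 = v0 * v2 * z2
  r30 : v3 * v0 = v0 * v3 * z2
  r21 : v2 * v1 = v1 * v2 * z1
  r31 : v3 * v1 = v1 * v3 * z2
  r32 : v3 * v2 = v2 * v3 * z1
  x0 : x * v0 = v1 * x
  x1 : x * v1 = v2 * x
  x2 : x * v2 = v3 * x
  x3 : x * v3 = v0 * v1 * v2 * v3 * x
  x_pow : x ^ 5 = 1

/-- `u` or `1`. -/
def bit (u : G) (i : Bool) : G := if i then u else 1

theorem bit_false (u : G) : bit u false = 1 := rfl

theorem bit_true (u : G) : bit u true = u := rfl

/-- Exponent vectors. -/
abbrev Six := Bool × Bool × Bool × Bool × Bool × Bool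

/-- Left multiplication by the first generator. -/
def l0 : Six → Six := fun ⟨a, b, c, d, e, f⟩ => (!a, b, c, d, xor e a, xor f a)

/-- Left multiplication by the second generator. -/
def l1 : Six → Six := fun ⟨a, b, c, d, e, f⟩ => (a, !b, c, d, xor (xor e a) b, xor f b)

/-- Left multiplication by the third generator. -/
def l2 : Six → Six := fun ⟨a, b, c, d, e, f⟩ => (a, b, !c, d, xor (xor e b) c, xor (xor f a) c)

/-- Left multiplication by the fourth generator. -/
def l3 : Six → Six :=
  fun ⟨a, b, c, d, e, f⟩ => (a, b, c, !d, xor (xor e c) d, xor (xor (xor f a) b) d)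

/-- Left multiplication by the first central involution. -/
def m1 : Six → Six := fun ⟨a, b, c, d, e, f⟩ => (a, b, c, d, !e, f)

/-- Left multiplication by the second central involution. -/
def m2 : Six → Six := fun ⟨a, b, c, d, e, f⟩ => (a, b, c, d, e, !f)

/-- Apply `g` if the bit is set. -/
def app (g : Six → Six) (i : Bool) (w : Six) : Six := if i then g w else w

/-- The effect of `x`. -/
def lx : Six → Six := fun ⟨a, b, c, d, e, f⟩ =>
  app l1 a (app l2 b (app l3 c (app (fun w => l0 (l1 (l2 (l3 w)))) d
    (false, false, false, false, e, f))))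

namespace Data

variable (D : Data G)

/-- The 2-part of the normal form. -/
def six : Six → G := fun ⟨a, b, c, d, e, f⟩ =>
  bit D.v0 a * bit D.v1 b * bit D.v2 c * bit D.v3 d * bit D.z1 e * bit D.z2 f

/-- The normal form. -/
def word (w : Six × Fin 5) : G := D.six w.1 * D.x ^ (w.2 : ℕ)

theorem flip (u : G) (hu : u * u = 1) (i : Bool) : u * bit u i = bit u (!i) := by
  cases i <;> simp [bit, hu]

theorem six_m1 (w : Six) : D.six (m1 w) = D.z1 * D.six w := by
  obtain ⟨a, b, c, d, e, f⟩ := w
  have hc : ∀ u ∈ [D.v0, D.v1, D.v2, D.v3], ∀ i, Commute D.z1 (bit u i) := fun u hu i => by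
    cases i
    · exact Commute.one_right _
    · exact D.comm1 u (by simp only [List.mem_cons, List.not_mem_nil, or_false] at hu ⊢; tauto)
  simp only [six, m1, ← mul_assoc]
  rw [(hc _ (by simp) a).eq, mul_assoc _ D.z1, (hc _ (by simp) b).eq, ← mul_assoc,
    mul_assoc _ D.z1, (hc _ (by simp) c).eq, ← mul_assoc,
    mul_assoc _ D.z1, (hc _ (by simp) d).eq, ← mul_assoc,
    mul_assoc _ D.z1, flip D.z1 D.z1_sq e]

theorem six_m2 (w : Six) : D.six (m2 w) = D.z2 * D.six w := by
  obtain ⟨a, b, c, d, e, f⟩ := w
  have hc : ∀ u ∈ [D.v0, D.v1, D.v2, D.v3, D.z1], ∀ i, Commute D.z2 (bit u i) := fun u hu i => by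
    cases i
    · exact Commute.one_right _
    · exact D.comm2 u (by simp only [List.mem_cons, List.not_mem_nil, or_false] at hu ⊢; tauto)
  simp only [six, m2, ← mul_assoc]
  rw [(hc _ (by simp) a).eq, mul_assoc _ D.z2, (hc _ (by simp) b).eq, ← mul_assoc,
    mul_assoc _ D.z2, (hc _ (by simp) c).eq, ← mul_assoc,
    mul_assoc _ D.z2, (hc _ (by simp) d).eq, ← mul_assoc,
    mul_assoc _ D.z2, (hc _ (by simp) e).eq, ← mul_assoc,
    mul_assoc _ D.z2, flip D.z2 D.z2_sq f]

theorem six_app (g : Six → Six) (u : G) (h : ∀ w, D.six (g w) = u * D.six w) (i : Bool) (w : Six) :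
    D.six (app g i w) = bit u i * D.six w := by
  cases i <;> simp [app, bit, h]

/-- A tail `bit z1 p * bit z2 q` may be moved to the right end. -/
theorem six_tail (a b c d e f p q : Bool) :
    bit D.z1 p * bit D.z2 q * D.six (a, b, c, d, e, f) =
      D.six (a, b, c, d, xor e p, xor f q) := by
  rw [mul_assoc, ← D.six_app m2 D.z2 D.six_m2, ← D.six_app m1 D.z1 D.six_m1]
  cases p <;> cases q <;> simp [app, m1, m2]

theorem six_head (a b c d e f : Bool) :
    D.six (a, b, c, d, e, f) =
      bit D.v0 a * D.six (false, b, c, d, e, f) := by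
  simp [six, bit, mul_assoc]

theorem six_head1 (b c d e f : Bool) :
    D.six (false, b, c, d, e, f) = bit D.v1 b * D.six (false, false, c, d, e, f) := by
  simp [six, bit, mul_assoc]

theorem six_head2 (c d e f : Bool) :
    D.six (false, false, c, d, e, f) = bit D.v2 c * D.six (false, false, false, d, e, f) := by
  simp [six, bit, mul_assoc]

theorem six_head3 (d e f : Bool) :
    D.six (false, false, false, d, e, f) = bit D.v3 d * D.six (false, false, false, false, e, f) := by
  simp [six, bit, mul_assoc]

theorem z_comm_bit {z u : G} (h : z * u = u * z) (i : Bool) : z * bit u i = bit u i * z := by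
  cases i
  · simp [bit]
  · exact h

theorem six_l0 (w : Six) : D.six (l0 w) = D.v0 * D.six w := by
  obtain ⟨a, b, c, d, e, f⟩ := w
  rw [D.six_head a, ← mul_assoc]
  cases a
  · rw [bit_false, mul_one]
    show D.six (true, b, c, d, xor e false, xor f false) = _
    rw [Bool.xor_false, Bool.xor_false, D.six_head true, bit_true]
  · rw [bit_true, D.v_sq _ (by simp)]
    show D.six (false, b, c, d, xor e true, xor f true) = _
    rw [← D.six_tail]; rfl

theorem six_l1 (w : Six) : D.six (l1 w) = D.v1 * D.six w := by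
  obtain ⟨a, b, c, d, e, f⟩ := w
  have key : ∀ e f, D.six (false, !b, c, d, xor e b, xor f b) =
      D.v1 * D.six (false, b, c, d, e, f) := by
    intro e f
    rw [D.six_head1 b, ← mul_assoc]
    cases b
    · rw [bit_false, mul_one, Bool.xor_false, Bool.xor_false]
      rw [D.six_head1 (!false)]; rfl
    · rw [bit_true, D.v_sq _ (by simp)]
      show D.six (false, false, c, d, xor e true, xor f true) = _
      rw [← D.six_tail]; rfl
  rw [D.six_head a, ← mul_assoc]
  cases a
  · rw [bit_false, mul_one]
    show D.six (false, !b, c, d, xor (xor e false) b, xor f b) = _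
    rw [Bool.xor_false, key]
  · rw [bit_true, D.r10]
    show D.six (true, !b, c, d, xor (xor e true) b, xor f b) = _
    rw [D.six_head true, key, bit_true, mul_assoc _ D.z1, ← D.six_m1,
      show m1 (false, b, c, d, e, f) = (false, b, c, d, xor e true, f) by simp [m1], mul_assoc]

theorem six_l2 (w : Six) : D.six (l2 w) = D.v2 * D.six w := by
  obtain ⟨a, b, c, d, e, f⟩ := w
  have key : ∀ e f, D.six (false, b, !c, d, xor (xor e b) c, xor f c) =
      D.v2 * D.six (false, b, c, d, e, f) := by
    intro e f
    have k2 : ∀ e f, D.six (false, false, !c, d, xor e c, xor f c) =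
        D.v2 * D.six (false, false, c, d, e, f) := by
      intro e f
      rw [D.six_head2 c, ← mul_assoc]
      cases c
      · rw [bit_false, mul_one, Bool.xor_false, Bool.xor_false]
        rw [D.six_head2 (!false)]; rfl
      · rw [bit_true, D.v_sq _ (by simp)]
        show D.six (false, false, false, d, xor e true, xor f true) = _
        rw [← D.six_tail]; rfl
    rw [D.six_head1 b (c := !c), D.six_head1 b (c := c), ← mul_assoc]
    cases b
    · rw [bit_false, Bool.xor_false, k2, one_mul, mul_one]
    · rw [bit_true, D.r21, k2, mul_assoc _ D.z1, ← D.six_m1,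
        show m1 (false, false, c, d, e, f) = (false, false, c, d, xor e true, f) by simp [m1],
        mul_assoc]
  rw [D.six_head a, ← mul_assoc]
  cases a
  · rw [bit_false, mul_one]
    show D.six (false, b, !c, d, xor (xor e b) c, xor (xor f false) c) = _
    rw [Bool.xor_false, key]
  · rw [bit_true, D.r20]
    show D.six (true, b, !c, d, xor (xor e b) c, xor (xor f true) c) = _
    rw [D.six_head true, key, bit_true, mul_assoc _ D.z2, ← D.six_m2,
      show m2 (false, b, c, d, e, f) = (false, b, c, d, e, xor f true) by simp [m2], mul_assoc]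

theorem six_l3 (w : Six) : D.six (l3 w) = D.v3 * D.six w := by
  obtain ⟨a, b, c, d, e, f⟩ := w
  have k3 : ∀ e f, D.six (false, false, false, !d, xor e d, xor f d) =
      D.v3 * D.six (false, false, false, d, e, f) := by
    intro e f
    rw [D.six_head3 d, ← mul_assoc]
    cases d
    · rw [bit_false, mul_one, Bool.xor_false, Bool.xor_false]
      rw [D.six_head3 (!false)]; rfl
    · rw [bit_true, D.v_sq _ (by simp)]
      show D.six (false, false, false, false, xor e true, xor f true) = _
      rw [← D.six_tail]; rfl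
  have k2 : ∀ e f, D.six (false, false, c, !d, xor (xor e c) d, xor f d) =
      D.v3 * D.six (false, false, c, d, e, f) := by
    intro e f
    rw [D.six_head2 c (d := !d), D.six_head2 c (d := d), ← mul_assoc]
    cases c
    · rw [bit_false, Bool.xor_false, k3, one_mul, mul_one]
    · rw [bit_true, D.r32, k3, mul_assoc _ D.z1, ← D.six_m1,
        show m1 (false, false, false, d, e, f) = (false, false, false, d, xor e true, f) by
          simp [m1], mul_assoc]
  have k1 : ∀ e f, D.six (false, b, c, !d, xor (xor e c) d, xor (xor f b) d) =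
      D.v3 * D.six (false, b, c, d, e, f) := by
    intro e f
    rw [D.six_head1 b (d := !d), D.six_head1 b (d := d), ← mul_assoc]
    cases b
    · rw [bit_false, Bool.xor_false, k2, one_mul, mul_one]
    · rw [bit_true, D.r31, k2, mul_assoc _ D.z2, ← D.six_m2,
        show m2 (false, false, c, d, e, f) = (false, false, c, d, e, xor f true) by simp [m2],
        mul_assoc]
  rw [D.six_head a, ← mul_assoc]
  cases a
  · rw [bit_false, mul_one]
    show D.six (false, b, c, !d, xor (xor e c) d, xor (xor (xor f false) b) d) = _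
    rw [Bool.xor_false, k1]
  · rw [bit_true, D.r30]
    show D.six (true, b, c, !d, xor (xor e c) d, xor (xor (xor f true) b) d) = _
    rw [D.six_head true, k1, bit_true, mul_assoc _ D.z2, ← D.six_m2,
      show m2 (false, b, c, d, e, f) = (false, b, c, d, e, xor f true) by simp [m2], mul_assoc]

theorem six_lx (w : Six) : D.six (lx w) * D.x = D.x * D.six w := by
  obtain ⟨a, b, c, d, e, f⟩ := w
  have hm : ∀ {u u' : G}, D.x * u = u' * D.x → ∀ i : Bool,
      D.x * bit u i = bit u' i * D.x := by
    intro u u' h i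
    cases i
    · simp [bit]
    · exact h
  show D.six (app l1 a (app l2 b (app l3 c (app (fun w => l0 (l1 (l2 (l3 w)))) d _)))) * D.x = _
  rw [D.six_app l1 D.v1 D.six_l1, D.six_app l2 D.v2 D.six_l2, D.six_app l3 D.v3 D.six_l3,
    D.six_app _ (D.v0 * D.v1 * D.v2 * D.v3)
      (fun w => by rw [D.six_l0, D.six_l1, D.six_l2, D.six_l3]; group)]
  simp only [six, bit_false, one_mul, ← mul_assoc]
  rw [hm D.x0 a, mul_assoc _ D.x, hm D.x1 b, ← mul_assoc, mul_assoc _ D.x, hm D.x2 c,
    ← mul_assoc, mul_assoc _ D.x, hm D.x3 d, ← mul_assoc,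
    mul_assoc _ D.x, hm (u' := D.z1) (D.comm1 _ (by simp)).symm e, ← mul_assoc,
    mul_assoc _ D.x, hm (u' := D.z2) (D.comm2 _ (by simp)).symm f, ← mul_assoc]

/-- The seven generators act on normal forms by fixed maps. -/
def gens : Fin 7 → G := ![D.v0, D.v1, D.v2, D.v3, D.z1, D.z2, D.x]

/-- The action of the generators on normal forms. -/
def act (i : Fin 7) (w : Six × Fin 5) : Six × Fin 5 :=
  (![l0, l1, l2, l3, m1, m2, lx] i w.1, if i = 6 then w.2 + 1 else w.2)

theorem word_act (i : Fin 7) (w : Six × Fin 5) :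
    D.word (act i w) = D.gens i * D.word w := by
  have hx : D.x ^ ((w.2 + 1 : Fin 5) : ℕ) = D.x * D.x ^ (w.2 : ℕ) := by
    rw [← pow_succ', Fin.val_add, ← pow_eq_pow_mod _ D.x_pow]; rfl
  have h : ∀ (g : Six → Six) (u : G), (∀ w, D.six (g w) = u * D.six w) →
      D.six (g w.1) * D.x ^ (w.2 : ℕ) = u * (D.six w.1 * D.x ^ (w.2 : ℕ)) := fun g u hg => by
    rw [hg, mul_assoc]
  fin_cases i
  · exact h l0 D.v0 D.six_l0
  · exact h l1 D.v1 D.six_l1
  · exact h l2 D.v2 D.six_l2
  · exact h l3 D.v3 D.six_l3
  · exact h m1 D.z1 D.six_m1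
  · exact h m2 D.z2 D.six_m2
  · show D.six (lx w.1) * D.x ^ ((w.2 + 1 : Fin 5) : ℕ) = D.x * (D.six w.1 * D.x ^ (w.2 : ℕ))
    rw [hx, ← mul_assoc, D.six_lx, mul_assoc]

theorem gens_word_one : D.word ((false, false, false, false, false, false), 0) = 1 := by
  simp [word, six, bit]

/-- A subgroup containing the generators contains every word. -/
theorem word_mem {S : Submonoid G} (h : ∀ i, D.gens i ∈ S) (w : Six × Fin 5) : D.word w ∈ S := by
  obtain ⟨⟨a, b, c, d, e, f⟩, k⟩ := w
  have hb : ∀ (u : G) (i : Bool), u ∈ S → bit u i ∈ S := fun u i hu => by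
    cases i
    · exact one_mem S
    · exact hu
  exact mul_mem (mul_mem (mul_mem (mul_mem (mul_mem (mul_mem (hb _ a (h 0)) (hb _ b (h 1)))
    (hb _ c (h 2))) (hb _ d (h 3))) (hb _ e (h 4))) (hb _ f (h 5))) (pow_mem (h 6) _)

end Data

/-- Two groups with the relations and bijective normal forms are isomorphic. -/
theorem nonempty_mulEquiv {H : Type*} [Group H] (D : Data G) (E : Data H)
    (hD : Function.Bijective D.word) (hE : Function.Bijective E.word) : Nonempty (G ≃* H) := by
  let eD := Equiv.ofBijective _ hD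
  let eE := Equiv.ofBijective _ hE
  let φ : G → H := fun g => eE (eD.symm g)
  have hφ : ∀ w, φ (D.word w) = E.word w := fun w => by
    show eE (eD.symm (eD w)) = _
    rw [Equiv.symm_apply_apply]; rfl
  have hgen : ∀ i g, φ (D.gens i * g) = E.gens i * φ g := by
    intro i g
    obtain ⟨w, rfl⟩ := hD.2 g
    rw [← D.word_act, hφ, hφ, E.word_act]
  have hone : φ 1 = 1 := by rw [← D.gens_word_one, hφ, E.gens_word_one]
  let S : Submonoid G :=
    { carrier := {a | ∀ g, φ (a * g) = φ a * φ g}
      one_mem' := fun g => by rw [one_mul, hone, one_mul]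
      mul_mem' := fun {a b} ha hb g => by rw [mul_assoc, ha, hb, ← mul_assoc, ← ha] }
  have hS : ∀ i, D.gens i ∈ S := fun i g => by
    rw [hgen, show φ (D.gens i) = E.gens i by
      have := hgen i 1; rwa [mul_one, hone, mul_one] at this]
  have hmul : ∀ a g, φ (a * g) = φ a * φ g := fun a g => by
    obtain ⟨w, rfl⟩ := hD.2 a
    exact D.word_mem hS w g
  exact ⟨MulEquiv.mk' (eD.symm.trans eE) hmul⟩

end CfsgLib.ThreeTwenty
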