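import Mathlib
import Cfsg.Agent.ThreeTwenty.Model
import Cfsg.Agent.RankSymplectic.Basic

/-!
# Groups of order 320 whose derived group has order 64 and a Klein four centre
-/

set_option autoImplicit false
set_option linter.style.haveILetI false

open Subgroup

namespace CfsgLib.ThreeTwenty

variable {G : Type*} [Group G] [Finite G]

/-- A normal subgroup containing an element of order five is everything. -/
theorem normal_eq_top (hG : Nat.card G = 320) (hD : Nat.card (commutator G) = 64) {x : G}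
    (hx : orderOf x = 5) {N : Subgroup G} [N.Normal] (hxN : x ∈ N) : N = ⊤ := by
  haveI : Fact (Nat.Prime 5) := ⟨by norm_num⟩
  have hsup : commutator G ⊔ zpowers x = ⊤ := by
    refine eq_top_of_card_eq _ (le_antisymm (Nat.le_of_dvd Nat.card_pos (card_subgroup_dvd_card _)) ?_)
    have h5 : 5 ∣ Nat.card ↥(commutator G ⊔ zpowers x) := by
      rw [← hx, ← Nat.card_zpowers]; exact card_dvd_of_le le_sup_right
    have h64 : 64 ∣ Nat.card ↥(commutator G ⊔ zpowers x) := hD ▸ card_dvd_of_le le_sup_left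
    have h320 : 320 ≤ Nat.card ↥(commutator G ⊔ zpowers x) :=
      Nat.le_of_dvd Nat.card_pos (Nat.Coprime.mul_dvd_of_dvd_of_dvd (by norm_num) h5 h64)
    omega
  have h5 : 5 ∣ Nat.card N := hx ▸ N.orderOf_dvd_natCard hxN
  obtain ⟨k, hk⟩ := h5
  have hidx := N.card_mul_index
  rw [hk, hG, mul_assoc] at hidx
  have h64 : N.index ∣ 2 ^ 6 := ⟨k, by rw [mul_comm k] at hidx; omega⟩
  obtain ⟨j, -, hj⟩ := (Nat.dvd_prime_pow Nat.prime_two).1 h64
  haveI : Group.IsNilpotent (G ⧸ N) :=
    (IsPGroup.of_card (p := 2) (n := j) (by rw [← hj]; rfl)).isNilpotent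
  haveI : Group.IsSolvable (G ⧸ N) := inferInstance
  by_contra hne
  haveI : Nontrivial (G ⧸ N) := QuotientGroup.nontrivial_iff.2 hne
  refine (Group.IsSolvable.commutator_lt_top_of_nontrivial (G := G ⧸ N)).ne ?_
  refine top_le_iff.1 ?_
  rw [← map_top_of_surjective _ (QuotientGroup.mk'_surjective N), ← hsup, Subgroup.map_sup,
    _root_.commutator_def, map_commutator, map_top_of_surjective _ (QuotientGroup.mk'_surjective N),
    ← _root_.commutator_def, sup_le_iff]
  refine ⟨le_rfl, ?_⟩
  rw [MonoidHom.map_zpowers, zpowers_le, QuotientGroup.mk'_apply,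
    (QuotientGroup.eq_one_iff x).2 hxN]
  exact one_mem _

/-- A group of order 320 as in the statement has the presentation. -/
theorem exists_data (hG : Nat.card G = 320) (hD : Nat.card (commutator G) = 64)
    (hZ : IsKleinFour (Subgroup.center (commutator G))) :
    ∃ D : Data G, Function.Bijective D.word := by
  haveI : Fact (Nat.Prime 5) := ⟨by norm_num⟩
  haveI : Fact (Nat.Prime 2) := ⟨Nat.prime_two⟩
  obtain ⟨x, hx⟩ := exists_prime_orderOf_dvd_card' (G := G) 5 (by rw [hG]; norm_num)
  set S := commutator G with hSdef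
  have hx5 : x ^ 5 = 1 := hx ▸ pow_orderOf_eq_one x
  have hS2 : IsPGroup 2 S := IsPGroup.of_card (n := 6) (by rw [hD]; norm_num)
  set Z : Subgroup G := S ⊓ centralizer (S : Set G) with hZdef
  haveI : S.Normal := Subgroup.commutator_normal _ _
  haveI : Z.Normal := inferInstanceAs (S ⊓ centralizer (S : Set G)).Normal
  have hZS : Z ≤ S := inf_le_left
  have hZc : Nat.card Z = 4 ∧ ∀ z ∈ Z, z * z = 1 := by
    have e : Z = (Subgroup.center S).map S.subtype := by
      ext g
      simp only [hZdef, mem_inf, mem_centralizer_iff, mem_map, mem_center_iff, Subgroup.coe_subtype,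
        SetLike.mem_coe]
      constructor
      · exact fun ⟨hg, hc⟩ => ⟨⟨g, hg⟩, fun u => Subtype.ext (hc u u.2), rfl⟩
      · rintro ⟨u, hu, rfl⟩
        exact ⟨u.2, fun t ht => congrArg Subtype.val (hu ⟨t, ht⟩)⟩
    refine ⟨?_, ?_⟩
    · rw [e, card_map_of_injective S.subtype_injective]; exact hZ.card_four
    · rw [e]
      rintro _ ⟨u, hu, rfl⟩
      have := Monoid.pow_exponent_eq_one (⟨u, hu⟩ : Subgroup.center S)
      rw [hZ.exponent_two, pow_two] at this
      exact congrArg (fun w : Subgroup.center S => ((w : S) : G)) this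
  obtain ⟨hZcard, hZsq⟩ := hZc
  -- fixed points of `x`
  have hfix : ∀ N : Subgroup G, N.Normal →
      Nat.card N ≡ Nat.card ↥(N ⊓ centralizer ({x} : Set G)) [MOD 5] := by
    intro N hN
    have hP : IsPGroup 5 (zpowers x) := IsPGroup.of_card (n := 1) (by rw [Nat.card_zpowers, hx]; rfl)
    have h := RankSymplectic.card_modEq_inf_centralizer (U := N) hP
      (by rw [normalizer_eq_top]; exact le_top)
    have e : centralizer ((zpowers x : Subgroup G) : Set G) = centralizer ({x} : Set G) := by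
      rw [zpowers_eq_closure, centralizer_closure]
    rwa [e] at h
  have hxZ : ∀ z ∈ Z, z * x = x * z := by
    have h := hfix Z inferInstance
    have hdvd : Nat.card ↥(Z ⊓ centralizer ({x} : Set G)) ∣ 4 :=
      hZcard ▸ card_dvd_of_le inf_le_left
    have hle := Nat.le_of_dvd (by norm_num) hdvd
    have heq : Z ⊓ centralizer ({x} : Set G) = Z := eq_of_le_of_card_ge inf_le_left (by
      rw [hZcard] at h ⊢
      unfold Nat.ModEq at h
      omega)
    intro z hz
    rw [← heq, mem_inf, mem_centralizer_singleton_iff] at hz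
    exact hz.2
  -- normal subgroups centralised by `x` are central
  have hNC : ∀ N : Subgroup G, N.Normal → (∀ u ∈ N, u * x = x * u) → ∀ u ∈ N, ∀ g, u * g = g * u := by
    intro N hN hc u hu g
    haveI := hN
    have hxc : x ∈ centralizer (N : Set G) := mem_centralizer_iff.2 fun v hv => hc v hv
    have := normal_eq_top hG hD hx hxc
    exact mem_centralizer_iff.1 (this ▸ mem_top g : g ∈ centralizer (N : Set G)) u hu
  have hZcen : ∀ z ∈ Z, ∀ g, z * g = g * z := hNC Z inferInstance hxZ
  have hcent_le : ∀ N : Subgroup G, N ≤ S → (∀ u ∈ N, ∀ g, u * g = g * u) → N ≤ Z := by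
    intro N hNS hc u hu
    exact ⟨hNS hu, mem_centralizer_iff.2 fun t _ => (hc u hu t).symm⟩
  -- no normal subgroup strictly between `Z` and `S`
  have hU : ∀ N : Subgroup G, N.Normal → Z ≤ N → N ≤ S → N ≠ Z → N = S := by
    intro N hN hZN hNS hne
    haveI := hN
    by_contra hNS'
    have h1 : Nat.card N ∣ 2 ^ 6 := (card_dvd_of_le hNS).trans (by rw [hD]; norm_num)
    have h2 : 4 ∣ Nat.card ↥(N ⊓ centralizer ({x} : Set G)) := by
      rw [← hZcard]
      exact card_dvd_of_le (le_inf hZN fun z hz => mem_centralizer_singleton_iff.2 (by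
        exact hxZ z hz))
    have h3 : Nat.card ↥(N ⊓ centralizer ({x} : Set G)) ∣ Nat.card N := card_dvd_of_le inf_le_left
    have hlt : Nat.card N < 64 := hD ▸ RankSymplectic.card_lt_of_lt (lt_of_le_of_ne hNS hNS')
    have hgt : 4 < Nat.card N := hZcard ▸ RankSymplectic.card_lt_of_lt (lt_of_le_of_ne hZN hne.symm)
    obtain ⟨i, hi, hNi⟩ := (Nat.dvd_prime_pow Nat.prime_two).1 h1
    obtain ⟨j, hji, hNj⟩ := (Nat.dvd_prime_pow Nat.prime_two).1 (hNi ▸ h3)
    have hm := hfix N hN
    rw [hNi] at hm hlt hgt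
    rw [hNj] at hm h2
    have hij : j = i := by
      interval_cases i <;> interval_cases j <;> simp [Nat.ModEq] at hm h2 hlt hgt ⊢
    have heq : N ⊓ centralizer ({x} : Set G) = N := eq_of_le_of_card_ge inf_le_left (by
      rw [hNi, hNj, hij])
    refine hne (le_antisymm (hcent_le N hNS (hNC N hN ?_)) hZN)
    intro u hu
    rw [← heq, mem_inf, mem_centralizer_singleton_iff] at hu
    exact hu.2
  -- `S` is nilpotent of class two with elementary central quotient
  let π := QuotientGroup.mk' Z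
  have hπ : ∀ a b : G, π a = π b → ∃ z ∈ Z, b = a * z := fun a b h =>
    ⟨a⁻¹ * b, QuotientGroup.eq.1 h, by group⟩
  have hπz : ∀ z ∈ Z, π z = 1 := fun z hz => (QuotientGroup.eq_one_iff z).2 hz
  have hker : ∀ a : G, π a = 1 → a ∈ Z := fun a ha => (QuotientGroup.eq_one_iff a).1 ha
  have hSne : Z ≠ S := fun e => by rw [e, hD] at hZcard; omega
  haveI hSπ : Nontrivial (S.map π) := by
    rw [Subgroup.nontrivial_iff_ne_bot, Ne, Subgroup.map_eq_bot_iff, QuotientGroup.ker_mk']
    exact fun hle => hSne (le_antisymm hZS hle)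
  have hSπ2 : IsPGroup 2 (S.map π) := hS2.map π
  have hcomm : ∀ s ∈ S, ∀ t ∈ S, π s * π t = π t * π s := by
    set K := S ⊓ (centralizer ((S.map π : Subgroup _) : Set (G ⧸ Z))).comap π with hK
    haveI : (S.map π).Normal := Subgroup.Normal.map inferInstance π (QuotientGroup.mk'_surjective Z)
    haveI : K.Normal := inferInstanceAs (S ⊓ _).Normal
    have hKS : K = S := by
      refine hU K inferInstance ?_ inf_le_left ?_
      · exact fun z hz => ⟨hZS hz, mem_comap.2 (by rw [hπz z hz]; exact one_mem _)⟩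
      · haveI := hSπ2.center_nontrivial
        obtain ⟨⟨⟨c, hc⟩, hcc⟩, hc1⟩ := exists_ne (1 : Subgroup.center (S.map π))
        obtain ⟨s, hs, rfl⟩ := hc
        intro e
        have hsK : s ∈ K := ⟨hs, mem_comap.2 (mem_centralizer_iff.2 fun u hu =>
          congrArg Subtype.val (Subgroup.mem_center_iff.1 hcc ⟨u, hu⟩))⟩
        refine hc1 (Subtype.ext (Subtype.ext ?_))
        exact hπz s (e ▸ hsK)
    intro s hs t ht
    have : t ∈ K := hKS.symm ▸ ht
    exact mem_centralizer_iff.1 (mem_comap.1 this.2) _ (mem_map_of_mem π hs)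
  have hswap : ∀ s ∈ S, ∀ t ∈ S, ∃ z ∈ Z, t * s = s * t * z := fun s hs t ht =>
    hπ _ _ (by rw [map_mul, map_mul, hcomm s hs t ht])
  have hsq : ∀ s ∈ S, s * s ∈ Z := by
    let K : Subgroup G :=
      { carrier := {s | s ∈ S ∧ π s * π s = 1}
        one_mem' := ⟨one_mem S, by simp⟩
        mul_mem' := fun {a b} ha hb => ⟨mul_mem ha.1 hb.1, by
          rw [map_mul]
          calc π a * π b * (π a * π b) = π a * (π b * π a) * π b := by group
            _ = π a * (π a * π b) * π b := by rw [hcomm b hb.1 a ha.1]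
            _ = (π a * π a) * (π b * π b) := by group
            _ = 1 := by rw [ha.2, hb.2, one_mul]⟩
        inv_mem' := fun {a} ha => ⟨inv_mem ha.1, by rw [map_inv, ← mul_inv_rev, ha.2, inv_one]⟩ }
    haveI : K.Normal := ⟨fun a ha g => ⟨Subgroup.Normal.conj_mem inferInstance a ha.1 g, by
      rw [map_mul, map_mul, map_inv]
      calc π g * π a * (π g)⁻¹ * (π g * π a * (π g)⁻¹) = π g * (π a * π a) * (π g)⁻¹ := by group
        _ = 1 := by rw [ha.2]; group⟩⟩
    have hKS : K = S := by
      refine hU K inferInstance (fun z hz => ⟨hZS hz, by rw [hπz z hz, one_mul]⟩) (fun a ha => ha.1) ?_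
      haveI : Finite (S.map π) := inferInstance
      obtain ⟨⟨c, hc⟩, hc2⟩ := exists_prime_orderOf_dvd_card' (G := S.map π) 2 (by
        obtain ⟨n, hn⟩ := IsPGroup.iff_card.1 hSπ2
        rw [hn]
        refine dvd_pow_self 2 fun h0 => ?_
        rw [h0, pow_zero] at hn
        exact absurd (Finite.one_lt_card (α := S.map π)) (by omega))
      obtain ⟨s, hs, rfl⟩ := hc
      intro e
      have h2 := pow_orderOf_eq_one (⟨π s, mem_map_of_mem π hs⟩ : S.map π)
      rw [hc2, pow_two] at h2
      have hsK : s ∈ K := ⟨hs, congrArg Subtype.val h2⟩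
      have : (⟨π s, mem_map_of_mem π hs⟩ : S.map π) = 1 := Subtype.ext (hπz s (e ▸ hsK))
      rw [orderOf_eq_one_iff.2 this] at hc2
      omega
    intro s hs
    refine hker _ ?_
    rw [map_mul]
    exact (hKS.symm ▸ hs : s ∈ K).2
  -- the conjugates of a non-central element
  let φ : G →* G := (MulAut.conj x).toMonoidHom
  have hφ : ∀ g, φ g = x * g * x⁻¹ := fun g => rfl
  have hφS : ∀ s ∈ S, φ s ∈ S := fun s hs => Subgroup.Normal.conj_mem inferInstance s hs x
  have hφZ : ∀ z ∈ Z, φ z = z := fun z hz => by rw [hφ, ← hxZ z hz]; group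
  have hφ5 : ∀ g, φ (φ (φ (φ (φ g)))) = g := fun g => by
    simp only [hφ]
    calc x * (x * (x * (x * (x * g * x⁻¹) * x⁻¹) * x⁻¹) * x⁻¹) * x⁻¹
        = (x * x * x * x * x) * g * (x * x * x * x * x)⁻¹ := by group
      _ = g := by rw [show x * x * x * x * x = x ^ 5 by simp [pow_succ], hx5]; group
  have hF : ∀ s ∈ S, (∃ z ∈ Z, φ s = s * z) → s ∈ Z := by
    rintro s hs ⟨z, hz, hsz⟩
    have h5 := hφ5 s
    simp only [hsz, map_mul, hφZ z hz] at h5
    have hz1 : z = 1 := by
      have : z * z * (z * z) * z = 1 := by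
        exact (mul_eq_left (a := s)).1 (by simpa [mul_assoc] using h5)
      rwa [hZsq z hz, one_mul, one_mul] at this
    rw [hz1, mul_one, hφ] at hsz
    have hsc : s ∈ S ⊓ centralizer ({x} : Set G) := ⟨hs, mem_centralizer_singleton_iff.2 (by
      exact (mul_inv_eq_iff_eq_mul.1 hsz).symm)⟩
    have heq : Z = S ⊓ centralizer ({x} : Set G) := by
      refine eq_of_le_of_card_ge (le_inf hZS fun z hz => mem_centralizer_singleton_iff.2 (by
        exact hxZ z hz)) ?_
      rw [hZcard]
      have h1 : Nat.card ↥(S ⊓ centralizer ({x} : Set G)) ∣ 2 ^ 6 :=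
        (card_dvd_of_le inf_le_left).trans (by rw [hD]; norm_num)
      obtain ⟨j, hj, hSj⟩ := (Nat.dvd_prime_pow Nat.prime_two).1 h1
      have hm := hfix S inferInstance
      rw [hD, hSj] at hm
      have hj6 : j ≠ 6 := by
        intro e6
        have hall : S ⊓ centralizer ({x} : Set G) = S :=
          eq_of_le_of_card_ge inf_le_left (by rw [hSj, e6, hD]; norm_num)
        refine hSne (le_antisymm hZS (hcent_le S le_rfl (hNC S inferInstance fun u hu => ?_)))
        rw [← hall, mem_inf, mem_centralizer_singleton_iff] at hu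
        exact hu.2
      rw [hSj]
      interval_cases j <;> simp [Nat.ModEq] at hm hj6 ⊢
    exact heq.symm ▸ hsc
  obtain ⟨u0, hu0S, hu0Z⟩ : ∃ u ∈ S, u ∉ Z :=
    SetLike.exists_of_lt (lt_of_le_of_ne hZS hSne)
  set u1 := φ u0 with hu1
  set u2 := φ u1 with hu2
  set u3 := φ u2 with hu3
  set u4 := φ u3 with hu4
  have hu1S : u1 ∈ S := hφS _ hu0S
  have hu2S : u2 ∈ S := hφS _ hu1S
  have hu3S : u3 ∈ S := hφS _ hu2S
  have hu4S : u4 ∈ S := hφS _ hu3S
  have hP : u0 * u1 * u2 * u3 ∈ S := mul_mem (mul_mem (mul_mem hu0S hu1S) hu2S) hu3S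
  have hp : u0 * u1 * u2 * u3 * u4 ∈ Z := by
    refine hF _ (mul_mem hP hu4S) (hπ _ _ ?_)
    simp only [map_mul, ← hu1, ← hu2, ← hu3, ← hu4]
    rw [show φ u4 = u0 from hφ5 u0]
    calc π u0 * π u1 * π u2 * π u3 * π u4 = π u0 * π (u1 * u2 * u3 * u4) := by
          simp only [map_mul]; group
      _ = π (u1 * u2 * u3 * u4) * π u0 :=
          hcomm _ hu0S _ (mul_mem (mul_mem (mul_mem hu1S hu2S) hu3S) hu4S)
      _ = _ := by simp only [map_mul]
  set w := (u0 * u1 * u2 * u3)⁻¹ * u4 with hw
  have hwZ : w ∈ Z := by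
    have : w = (u0 * u1 * u2 * u3)⁻¹ * (u0 * u1 * u2 * u3)⁻¹ * (u0 * u1 * u2 * u3 * u4) := by
      rw [hw]; group
    rw [this]
    exact mul_mem (hsq _ (inv_mem hP)) hp
  clear_value w
  -- the normalised generators
  set v0 := u0 * w with hv0
  set v1 := φ v0 with hv1
  set v2 := φ v1 with hv2
  set v3 := φ v2 with hv3
  have hv0S : v0 ∈ S := mul_mem hu0S (hZS hwZ)
  have hv1S : v1 ∈ S := hφS _ hv0S
  have hv2S : v2 ∈ S := hφS _ hv1S
  have hv3S : v3 ∈ S := hφS _ hv2S
  have hv4 : φ v3 = v0 * v1 * v2 * v3 := by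
    have e1 : v1 = u1 * w := by rw [hv1, hv0, map_mul, hφZ w hwZ]
    have e2 : v2 = u2 * w := by rw [hv2, e1, map_mul, hφZ w hwZ]
    have e3 : v3 = u3 * w := by rw [hv3, e2, map_mul, hφZ w hwZ]
    have hc : ∀ g, w * g = g * w := hZcen w hwZ
    have hww : w * w = 1 := hZsq w hwZ
    calc φ v3 = u4 * w := by rw [e3, map_mul, hφZ w hwZ]
      _ = u0 * u1 * u2 * u3 * (w * w) := by rw [hw]; group
      _ = u0 * u1 * u2 * u3 := by rw [hww, mul_one]
      _ = u0 * u1 * u2 * u3 * ((w * w) * (w * w)) := by rw [hww, mul_one, mul_one]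
      _ = v0 * v1 * v2 * v3 := by
        rw [hv0, e1, e2, e3]
        simp only [mul_assoc]
        rw [← mul_assoc w u1, hc u1, mul_assoc, ← mul_assoc w u2, hc u2, mul_assoc,
          ← mul_assoc w (u2), hc u2, mul_assoc, ← mul_assoc w u3, hc u3, mul_assoc,
          ← mul_assoc w u3, hc u3, mul_assoc, ← mul_assoc w u3, hc u3, mul_assoc]
  clear_value v0
  obtain ⟨z1, hz1Z, r10⟩ := hswap v0 hv0S v1 hv1S
  obtain ⟨z2, hz2Z, r20⟩ := hswap v0 hv0S v2 hv2S
  have hc1 : ∀ g, z1 * g = g * z1 := hZcen z1 hz1Z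
  have hc2 : ∀ g, z2 * g = g * z2 := hZcen z2 hz2Z
  have hv5 : φ (φ v3) = v0 := hφ5 v0
  have r21 : v2 * v1 = v1 * v2 * z1 := by
    have := congrArg φ r10; simpa only [map_mul, hφZ z1 hz1Z] using this
  have r32 : v3 * v2 = v2 * v3 * z1 := by
    have := congrArg φ r21; simpa only [map_mul, hφZ z1 hz1Z] using this
  have r31 : v3 * v1 = v1 * v3 * z2 := by
    have := congrArg φ r20; simpa only [map_mul, hφZ z2 hz2Z] using this
  have r30 : v3 * v0 = v0 * v3 * z2 := by
    have h := congrArg φ (congrArg φ r31)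
    simp only [map_mul, hφZ z2 hz2Z, ← hv2, ← hv3, hv5] at h
    rw [h, mul_assoc, hZsq z2 hz2Z, mul_one]
  have hsS : v0 * v0 ∈ Z := hsq _ hv0S
  set s := v0 * v0 with hs
  have hs1 : v1 * v1 = s := by rw [hv1, ← map_mul, ← hs, hφZ s hsS]
  have hs2 : v2 * v2 = s := by rw [hv2, ← map_mul, hs1, hφZ s hsS]
  have hs3 : v3 * v3 = s := by rw [hv3, ← map_mul, hs2, hφZ s hsS]
  have hs4 : φ v3 * φ v3 = s := by rw [← map_mul, hs3, hφZ s hsS]
  have hss : s * s = 1 := hZsq s hsS
  have hseq : s = z1 * z2 := by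
    clear_value s
    have hz1 := hZsq z1 hz1Z
    have hz2 := hZsq z2 hz2Z
    have hcs : ∀ g, s * g = g * s := hZcen s hsS
    have hA : v1 * v2 * v3 * v0 = v0 * (v1 * v2 * v3) * z1 := by
      calc v1 * v2 * v3 * v0 = v1 * v2 * (v3 * v0) := by group
        _ = v1 * (v2 * v0) * v3 * z2 := by rw [r30]; group
        _ = v1 * v0 * v2 * (z2 * v3) * z2 := by rw [r20]; group
        _ = v1 * v0 * v2 * v3 * (z2 * z2) := by rw [hc2 v3]; group
        _ = v0 * v1 * (z1 * (v2 * v3)) := by rw [r10, hz2]; group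
        _ = v0 * (v1 * v2 * v3) * z1 := by rw [hc1 (v2 * v3)]; group
    have hB : v2 * v3 * v1 = v1 * (v2 * v3) * (z1 * z2) := by
      calc v2 * v3 * v1 = v2 * v1 * v3 * z2 := by rw [mul_assoc, r31]; group
        _ = v1 * v2 * (z1 * v3) * z2 := by rw [r21]; group
        _ = _ := by rw [hc1 v3]; group
    have hB2 : v2 * v3 * (v2 * v3) = z1 := by
      calc v2 * v3 * (v2 * v3) = v2 * (v3 * v2) * v3 := by group
        _ = v2 * v2 * v3 * (z1 * v3) := by rw [r32]; group
        _ = (v2 * v2) * (v3 * v3) * z1 := by rw [hc1 v3]; group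
        _ = z1 := by rw [hs2, hs3, hss, one_mul]
    have hA2 : v1 * v2 * v3 * (v1 * v2 * v3) = s * z2 := by
      calc v1 * v2 * v3 * (v1 * v2 * v3) = v1 * (v2 * v3 * v1) * (v2 * v3) := by group
        _ = (v1 * v1) * (v2 * v3) * ((z1 * z2) * (v2 * v3)) := by rw [hB]; group
        _ = s * (v2 * v3 * (v2 * v3)) * (z1 * z2) := by
          rw [hs1, mul_assoc z1, hc2 (v2 * v3), ← mul_assoc z1, hc1 (v2 * v3)]; group
        _ = s * ((z1 * z1) * z2) := by rw [hB2]; group
        _ = s * z2 := by rw [hz1, one_mul]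
    have key : s = v0 * v0 * (s * z2) * z1 := by
      calc s = v0 * v1 * v2 * v3 * (v0 * v1 * v2 * v3) := by rw [← hv4, hs4]
        _ = v0 * (v1 * v2 * v3 * v0) * (v1 * v2 * v3) := by group
        _ = v0 * v0 * (v1 * v2 * v3) * (z1 * (v1 * v2 * v3)) := by rw [hA]; group
        _ = v0 * v0 * (v1 * v2 * v3 * (v1 * v2 * v3)) * z1 := by
          rw [hc1 (v1 * v2 * v3)]; group
        _ = _ := by rw [hA2]
    rw [← hs, ← mul_assoc, hss, one_mul] at key
    rw [key, hc1 z2]
  -- the data
  let D : Data G :=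
    { v0 := v0, v1 := v1, v2 := v2, v3 := v3, z1 := z1, z2 := z2, x := x
      comm1 := fun u _ => hc1 u
      comm2 := fun u _ => hc2 u
      z1_sq := hZsq z1 hz1Z
      z2_sq := hZsq z2 hz2Z
      v_sq := by
        intro u hu
        simp only [List.mem_cons, List.not_mem_nil, or_false] at hu
        rw [← hseq]
        rcases hu with rfl | rfl | rfl | rfl
        · exact hs.symm
        · exact hs1
        · exact hs2
        · exact hs3
      r10 := r10, r20 := r20, r30 := r30, r21 := r21, r31 := r31, r32 := r32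
      x0 := by rw [hv1, hφ]; group
      x1 := by rw [hv2, hφ]; group
      x2 := by rw [hv3, hφ]; group
      x3 := by rw [← hv4, hφ]; group
      x_pow := hx5 }
  refine ⟨D, ?_⟩
  -- the generators generate
  set H : Subgroup G := closure (Set.range D.gens) with hH
  have hxH : x ∈ H := subset_closure ⟨6, rfl⟩
  have hv0H : v0 ∈ H := subset_closure ⟨0, rfl⟩
  set HZ := H ⊔ Z with hHZ
  haveI : (HZ ⊓ S).Normal := by
    refine ⟨?_⟩
    let T : Subgroup G := normalizer ((HZ ⊓ S : Subgroup G) : Set G)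
    have hxT : x ∈ T := by
      refine mem_normalizer_iff.2 fun a => ?_
      have hxHZ : x ∈ HZ := mem_sup_left hxH
      simp only [mem_inf]
      refine and_congr ⟨fun h => mul_mem (mul_mem hxHZ h) (inv_mem hxHZ), fun h => ?_⟩
        ⟨fun h => Subgroup.Normal.conj_mem inferInstance a h x, fun h => ?_⟩
      · have := mul_mem (mul_mem (inv_mem hxHZ) h) hxHZ
        simpa [mul_assoc] using this
      · simpa [mul_assoc] using Subgroup.Normal.conj_mem inferInstance _ h x⁻¹
    have hST : S ≤ T := by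
      intro t ht
      refine mem_normalizer_iff.2 fun a => ⟨fun ha => ?_, fun ha => ?_⟩
      · obtain ⟨z, hz, hz'⟩ := hswap a ha.2 t ht
        rw [hz', show a * t * z * t⁻¹ = a * t * (z * t⁻¹) by group, hZcen z hz t⁻¹,
          show a * t * (t⁻¹ * z) = a * z by group]
        exact mul_mem ha ⟨mem_sup_right hz, hZS hz⟩
      · obtain ⟨z, hz, hz'⟩ := hswap (t * a * t⁻¹) ha.2 t⁻¹ (inv_mem ht)
        have e : a = t * a * t⁻¹ * z := by
          refine mul_right_cancel (b := t⁻¹) ?_
          rw [mul_assoc _ z, hZcen z hz t⁻¹, ← mul_assoc (t * a * t⁻¹), ← hz']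
          group
        rw [e]
        exact mul_mem ha ⟨mem_sup_right hz, hZS hz⟩
    have hTtop : T = ⊤ := by
      haveI : T.Normal := ⟨fun a ha g => by
        have hle : commutator G ≤ T := hST
        have h1 : g * a * g⁻¹ * a⁻¹ ∈ T := hle (by
          open scoped commutatorElement in
          exact commutatorElement_def g a ▸ commutator_mem_commutator (mem_top g) (mem_top a))
        simpa [mul_assoc] using mul_mem h1 ha⟩
      exact normal_eq_top hG hD hx hxT
    intro a ha g
    exact (mem_normalizer_iff.1 (hTtop ▸ mem_top g : g ∈ T) a).1 ha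
  have hSle : S ≤ HZ := by
    have := hU (HZ ⊓ S) inferInstance (le_inf le_sup_right hZS) inf_le_right (fun e => by
      have hv : v0 ∈ Z := e ▸ (⟨mem_sup_left hv0H, hv0S⟩ : v0 ∈ HZ ⊓ S)
      exact hu0Z (by simpa [hv0] using mul_mem hv (inv_mem hwZ)))
    exact this ▸ inf_le_left
  have hHZtop : HZ = ⊤ := by
    haveI : HZ.Normal := ⟨fun a ha g => by
      have h1 : g * a * g⁻¹ * a⁻¹ ∈ HZ := hSle (by
        open scoped commutatorElement in
        exact commutatorElement_def g a ▸ commutator_mem_commutator (mem_top g) (mem_top a))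
      simpa [mul_assoc] using mul_mem h1 ha⟩
    exact normal_eq_top hG hD hx (mem_sup_left hxH)
  have hHtop : H = ⊤ := by
    haveI : H.Normal := ⟨fun a ha g => by
      have hg : g ∈ H ⊔ Z := by rw [← hHZ, hHZtop]; exact mem_top g
      obtain ⟨y, hy, z, hz, rfl⟩ := mem_sup_of_normal_right.1 hg
      rw [show y * z * a * (y * z)⁻¹ = y * (z * a) * z⁻¹ * y⁻¹ by group, hZcen z hz a]
      simpa [mul_assoc] using mul_mem (mul_mem hy ha) (inv_mem hy)⟩
    exact normal_eq_top hG hD hx hxH
  have hclosed : ∀ g ∈ H, ∀ y, y ∈ Set.range D.word → g * y ∈ Set.range D.word := by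
    intro g hg
    have hg' : g ∈ Submonoid.closure (Set.range D.gens) := by
      rw [← closure_toSubmonoid_of_finite]; exact hg
    induction hg' using Submonoid.closure_induction with
    | mem a ha =>
      obtain ⟨i, rfl⟩ := ha
      rintro _ ⟨r, rfl⟩
      exact ⟨_, D.word_act i r⟩
    | one => simp
    | mul a b hsa hsb iha ihb =>
      intro y hy
      rw [mul_assoc]
      exact iha (by rw [hH, ← Subgroup.mem_toSubmonoid, closure_toSubmonoid_of_finite]; exact hsa) _
        (ihb (by rw [hH, ← Subgroup.mem_toSubmonoid, closure_toSubmonoid_of_finite]; exact hsb) y hy)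
  have hsurj : Function.Surjective D.word := by
    intro g
    have := hclosed g (hHtop ▸ mem_top g) 1 ⟨_, D.gens_word_one⟩
    rwa [mul_one] at this
  exact hsurj.bijective_of_nat_card_le (by rw [hG]; simp [Nat.card_eq_fintype_card])

end CfsgLib.ThreeTwenty
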