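import Cfsg.Agent.ThreeTwenty.Model
import Cfsg.Agent.UThreeSylow.Structure

/-!
# The centraliser of an involution of `PSU₃(4)` has the presentation `Data`
-/

set_option autoImplicit false
set_option linter.style.haveILetI false

open CfsgLib.UThreeSylow

namespace CfsgLib.ThreeTwenty

variable {F : Type*} [Field F] [Fintype F]

omit [Fintype F] in
theorem bit_map {G H : Type*} [Group G] [Group H] (f : G →* H) (u : G) (i : Bool) :
    bit (f u) i = f (bit u i) := by
  cases i <;> simp [bit]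

/-- An element of order five of the field with 16 elements. -/
theorem exists_omega (h : Good F 2 4) :
    ∃ ω : F, orderOf ω = 5 ∧ ω ^ 5 = 1 ∧ ω ^ 4 = ω ^ 3 + ω ^ 2 + ω + 1 := by
  classical
  haveI : Fact (Nat.Prime 5) := ⟨by norm_num⟩
  obtain ⟨u, hu⟩ := exists_prime_orderOf_dvd_card (G := Fˣ) 5 (by
    rw [Fintype.card_units, h.card_eq]; norm_num)
  have ho : orderOf (u : F) = 5 := by rw [orderOf_units, hu]
  have h5 : (u : F) ^ 5 = 1 := by have h1 := pow_orderOf_eq_one (u : F); rwa [ho] at h1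
  refine ⟨u, ho, h5, ?_⟩
  have hne : (u : F) ≠ 1 := fun e => by rw [e, orderOf_one] at ho; omega
  have h2 := h.two
  have hprod : ((u : F) - 1) * ((u : F) ^ 4 + (u : F) ^ 3 + (u : F) ^ 2 + u + 1) = 0 := by
    linear_combination h5
  have := (mul_eq_zero.1 hprod).resolve_left (sub_ne_zero.2 hne)
  linear_combination this - ((u : F) ^ 3 + (u : F) ^ 2 + u + 1) * h2

omit [Fintype F] in
/-- Preserving the form means that the columns are orthonormal. -/
theorem col_orth {g : Matrix.SpecialLinearGroup (Fin 3) F} (hg : g ∈ Cfsg.SU 3 F 4) (i j : Fin 3) :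
    g.1 0 i * g.1 0 j ^ 4 + g.1 1 i * g.1 1 j ^ 4 + g.1 2 i * g.1 2 j ^ 4 =
      if i = j then 1 else 0 := by
  classical
  have h := hg (Pi.single i 1) (Pi.single j 1)
  change Cfsg.hermForm 3 F 4 (g.1.mulVec (Pi.single i 1)) (g.1.mulVec (Pi.single j 1)) =
    Cfsg.hermForm 3 F 4 (Pi.single i 1) (Pi.single j 1) at h
  simp only [Cfsg.hermForm, Matrix.mulVec_single, Fin.sum_univ_three, MulOpposite.op_one,
    one_smul, Matrix.col_apply] at h
  rw [h]
  fin_cases i <;> fin_cases j <;> simp

/-- At most 320 elements centralise the central involution `(0, 1)`. -/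
theorem card_centralizer_le (h : Good F 2 4) {t : uSub h} (ht : cA t = 0) (ht' : cB t = 1) :
    Nat.card (Subgroup.centralizer ({(t : Cfsg.SU 3 F 4)} : Set (Cfsg.SU 3 F 4))) ≤ 320 := by
  classical
  have h2 := h.two
  have h16 : ∀ y : F, y ^ 16 = y := fun y => by
    have := FiniteField.pow_card y
    rwa [h.card_eq] at this
  set C := Subgroup.centralizer ({(t : Cfsg.SU 3 F 4)} : Set (Cfsg.SU 3 F 4)) with hC
  -- the shape of a matrix in the centraliser
  have key : ∀ g : C, ∃ a b d : F, (a + b) ^ 5 = 1 ∧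
      ((a + b) ^ 4 * b) + ((a + b) ^ 4 * b) ^ 4 = d ^ 5 ∧
      g.1.1.1 = !![a, b, (a + b) ^ 4 * d ^ 4; b, a, (a + b) ^ 4 * d ^ 4;
        d, d, (a + b) ^ 3] := by
    intro g
    have hcomm : g.1 * (t : Cfsg.SU 3 F 4) = (t : Cfsg.SU 3 F 4) * g.1 := by
      have hh := Subgroup.mem_centralizer_singleton_iff.1 g.2
      exact hh
    have hm : g.1.1.1 * uMat 4 0 1 = uMat 4 0 1 * g.1.1.1 := by
      have htm : (t : Cfsg.SU 3 F 4).1.1 = uMat 4 0 1 := by rw [(coords_spec t).2, ht, ht']
      rw [← htm]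
      exact congrArg (fun x : Cfsg.SU 3 F 4 => x.1.1) hcomm
    have hdet := g.1.1.2
    set M := g.1.1.1 with hM
    clear_value M
    have h11 : (1 + 1 : F) = 0 := h.add_self 1
    have e00 := congrFun (congrFun hm 0) 1
    have e01 := congrFun (congrFun hm 0) 0
    have e20 := congrFun (congrFun hm 2) 0
    have e02 := congrFun (congrFun hm 0) 2
    simp [uMat, Matrix.mul_apply, Fin.sum_univ_three, h11] at e00 e01 e20 e02
    have o00 := col_orth g.1.2 0 0
    have o01 := col_orth g.1.2 0 1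
    have o02 := col_orth g.1.2 0 2
    have o22 := col_orth g.1.2 2 2
    rw [← hM] at o00 o01 o02 o22
    simp only [if_true, show (0 : Fin 3) ≠ 1 by decide,
      show (0 : Fin 3) ≠ 2 by decide, if_false] at o00 o01 o02 o22
    have hadd4 : ∀ x y : F, (x + y) ^ 4 = x ^ 4 + y ^ 4 := h.conj_add
    rw [Matrix.det_fin_three] at hdet
    refine ⟨M 0 0, M 0 1, M 2 0, ?_⟩
    have q1 : M 1 1 = M 0 0 := by grind
    have q2 : M 1 0 = M 0 1 := by grind
    have q3 : M 2 1 = M 2 0 := by grind
    have q4 : M 1 2 = M 0 2 := by grind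
    rw [q1, q2, q3, q4] at hdet
    rw [q2, q1, q3] at o01
    rw [q2] at o00
    rw [q2, q4] at o02
    rw [q4] at o22
    have hm5 : (M 0 0 + M 0 1) ^ 5 = 1 := by
      rw [pow_succ, hadd4]
      linear_combination o00 + o01 - M 2 0 ^ 5 * h2
    set m := M 0 0 + M 0 1 with hmdef
    have he : M 2 2 = m ^ 3 := by
      have hdet' : m ^ 2 * M 2 2 = 1 := by
        rw [hmdef]
        linear_combination hdet +
          (M 0 0 * M 0 1 * M 2 2 + M 0 1 ^ 2 * M 2 2 + M 0 0 * M 0 2 * M 2 0
            - M 0 1 * M 0 2 * M 2 0) * h2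
      linear_combination m ^ 3 * hdet' - M 2 2 * hm5
    have hd : M 2 0 = m ^ 4 * M 0 2 ^ 4 := by
      have h1 : m * M 0 2 ^ 4 + M 2 0 * M 2 2 ^ 4 = 0 := by rw [hmdef]; linear_combination o02
      rw [he] at h1
      linear_combination m ^ 3 * h1 - M 2 0 * (m ^ 10 + m ^ 5 + 1) * hm5 - m ^ 4 * M 0 2 ^ 4 * h2
    have hc : M 0 2 = m ^ 4 * M 2 0 ^ 4 := by
      rw [hd, mul_pow, ← pow_mul, ← pow_mul, h16 (M 0 2)]
      linear_combination -(M 0 2 * (m ^ 15 + m ^ 10 + m ^ 5 + 1)) * hm5
    refine ⟨hm5, ?_, ?_⟩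
    · have hb : m * M 0 1 ^ 4 + M 0 1 * m ^ 4 + M 2 0 ^ 5 = 0 := by
        rw [hmdef, hadd4]; linear_combination o01 + M 0 1 ^ 5 * h2
      rw [mul_pow, ← pow_mul]
      linear_combination hb + (m ^ 11 + m ^ 6 + m) * M 0 1 ^ 4 * hm5 - M 2 0 ^ 5 * h2
    · ext i j
      fin_cases i <;> fin_cases j
      · rfl
      · rfl
      · exact hc
      · exact q2
      · exact q1
      · exact q4.trans hc
      · rfl
      · exact q3
      · exact he
  choose a b d hm hbd hshape using key
  have hu : ∀ g, ∃ u : uSub h, cA u = d g ∧ cB u = (a g + b g) ^ 4 * b g :=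
    fun g => exists_coords h (hbd g)
  choose u hua hub using hu
  have hinj : Function.Injective fun g : C =>
      ((⟨a g + b g, hm g⟩ : {y : F // y ^ 5 = 1}), u g) := by
    intro g g' e
    obtain ⟨e1, e2⟩ := Prod.mk.injEq .. ▸ e
    have em : a g + b g = a g' + b g' := congrArg Subtype.val e1
    have ed : d g = d g' := by rw [← hua g, ← hua g', e2]
    have eb' : (a g + b g) ^ 4 * b g = (a g' + b g') ^ 4 * b g' := by rw [← hub g, ← hub g', e2]
    rw [← em] at eb'
    have eb : b g = b g' := by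
      linear_combination (a g + b g) * eb' - (b g - b g') * hm g
    have ea : a g = a g' := by linear_combination em - eb
    refine Subtype.ext (Subtype.ext (Subtype.ext ?_))
    rw [hshape g, hshape g', ea, eb, ed]
  refine (Nat.card_le_card_of_injective _ hinj).trans ?_
  rw [Nat.card_prod, card_uSub h]
  have hR : Nat.card {y : F // y ^ 5 = 1} ≤ 5 := by
    rw [Nat.card_eq_fintype_card, Fintype.card_subtype]
    refine le_trans (Finset.card_le_card (t := (Polynomial.nthRoots 5 (1 : F)).toFinset) ?_)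
      ((Multiset.toFinset_card_le _).trans (Polynomial.card_nthRoots 5 _))
    intro y hy
    rw [Multiset.mem_toFinset, Polynomial.mem_nthRoots (by norm_num)]
    exact (Finset.mem_filter.1 hy).2
  calc _ ≤ 5 * 4 ^ 3 := Nat.mul_le_mul_right _ hR
    _ = 320 := rfl

/-- The bit as an element of the field. -/
def β (i : Bool) : F := if i then 1 else 0

omit [Fintype F] in
theorem indep_A {ω : F} (h2 : (2 : F) = 0)
    (h4 : ω ^ 4 = ω ^ 3 + ω ^ 2 + ω + 1) : ∀ a b c d : Bool,
    β a + β b * ω + β c * ω ^ 2 + β d * ω ^ 3 = (0 : F) →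
      a = false ∧ b = false ∧ c = false ∧ d = false := by
  intro a b c d
  cases a <;> cases b <;> cases c <;> cases d <;> simp [β] <;> grind

omit [Fintype F] in
theorem indep_B {ω : F} (h2 : (2 : F) = 0)
    (h4 : ω ^ 4 = ω ^ 3 + ω ^ 2 + ω + 1) : ∀ i j : Bool,
    β i * (ω + ω ^ 4) + β j * (ω ^ 2 + ω ^ 3) = (0 : F) → i = false ∧ j = false := by
  intro i j
  cases i <;> cases j <;> simp [β] <;> grind

set_option maxHeartbeats 800000 in
/-- The centraliser of the involution `(0, 1)` of `SU₃(4)` has the presentation. -/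
theorem exists_data_centralizer (h : Good F 2 4) :
    ∃ (t : Cfsg.SU 3 F 4), orderOf t = 2 ∧
      ∃ D : Data (Subgroup.centralizer ({t} : Set (Cfsg.SU 3 F 4))), Function.Bijective D.word := by
  classical
  have h2 := h.two
  have hq : (0 : F) ^ 4 = 0 := zero_pow (by norm_num)
  obtain ⟨ω, hω, hω5, hω4⟩ := exists_omega h
  have mk : ∀ a b : F, b + b ^ 4 = a ^ (4 + 1) → ∃ u : uSub h, cA u = a ∧ cB u = b :=
    fun a b => exists_coords h
  obtain ⟨t, ht, ht'⟩ := mk 0 1 (by rw [one_pow, zero_pow (by norm_num)]; exact h.add_self 1)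
  have hb0 : ∀ a : F, a ^ 5 = 1 → (ω + ω ^ 3) + (ω + ω ^ 3) ^ 4 = a ^ (4 + 1) := fun a ha => by
    rw [ha, h.conj_add, ← pow_mul]
    grind
  obtain ⟨v0, hv0, hv0'⟩ := mk 1 _ (hb0 1 (one_pow 5))
  obtain ⟨v1, hv1, hv1'⟩ := mk ω _ (hb0 ω hω5)
  obtain ⟨v2, hv2, hv2'⟩ := mk (ω ^ 2) _ (hb0 _ (by rw [← pow_mul, mul_comm, pow_mul, hω5, one_pow]))
  obtain ⟨v3, hv3, hv3'⟩ := mk (ω ^ 3) _ (hb0 _ (by rw [← pow_mul, mul_comm, pow_mul, hω5, one_pow]))
  obtain ⟨z1, hz1, hz1'⟩ := mk 0 (ω + ω ^ 4) (by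
    rw [h.conj_add, ← pow_mul, zero_pow (by norm_num)]; grind)
  obtain ⟨z2, hz2, hz2'⟩ := mk 0 (ω ^ 2 + ω ^ 3) (by
    rw [h.conj_add, ← pow_mul, ← pow_mul, zero_pow (by norm_num)]; grind)
  -- the diagonal element
  let w : Fin 3 → F := ![ω ^ 3, ω ^ 3, ω ^ 4]
  have hw5 : ∀ i, w i ^ 5 = 1 := by
    intro i
    fin_cases i <;> simp [w, pow_right_comm _ _ 5, hω5]
  have hdet : (Matrix.diagonal w).det = 1 := by
    rw [Matrix.det_diagonal, Fin.prod_univ_three]
    simp [w]
    grind
  let xs : Matrix.SpecialLinearGroup (Fin 3) F := ⟨Matrix.diagonal w, hdet⟩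
  have hxs : xs ∈ Cfsg.SU 3 F 4 := by
    intro u v
    change Cfsg.hermForm 3 F 4 ((Matrix.diagonal w).mulVec u) ((Matrix.diagonal w).mulVec v) = _
    simp only [Cfsg.hermForm, Matrix.mulVec_diagonal]
    refine Finset.sum_congr rfl fun i _ => ?_
    linear_combination (u i * v i ^ 4) * hw5 i
  let x : Cfsg.SU 3 F 4 := ⟨xs, hxs⟩
  have hxu : ∀ u u' : uSub h, cA u' = ω * cA u → cB u' = cB u →
      x * (u : Cfsg.SU 3 F 4) = (u' : Cfsg.SU 3 F 4) * x := by
    intro u u' ea eb
    refine Subtype.ext (Subtype.ext ?_)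
    show Matrix.diagonal w * u.1.1.1 = u'.1.1.1 * Matrix.diagonal w
    rw [(coords_spec u).2, (coords_spec u').2, ea, eb]
    ext i j
    rw [Matrix.diagonal_mul, Matrix.mul_diagonal]
    fin_cases i <;> fin_cases j <;> simp [uMat, w] <;> grind
  set T : Set (Cfsg.SU 3 F 4) := {(t : Cfsg.SU 3 F 4)} with hT
  have hmemU : ∀ u : uSub h, (u : Cfsg.SU 3 F 4) ∈ Subgroup.centralizer T := fun u => by
    rw [hT, Subgroup.mem_centralizer_singleton_iff]
    first
      | exact congrArg Subtype.val (commute_of_cA_zero ht u)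
      | exact (congrArg Subtype.val (commute_of_cA_zero ht u)).symm
  have hmemX : x ∈ Subgroup.centralizer T := by
    rw [hT, Subgroup.mem_centralizer_singleton_iff]
    have := hxu t t (by rw [ht, mul_zero]) rfl
    exact this
  let ι : uSub h →* Subgroup.centralizer T := (Subgroup.subtype (uSub h)).codRestrict _ hmemU
  have hι : Function.Injective ι := fun a b e => by
    have e' := congrArg Subtype.val e
    exact Subtype.ext e'
  let X : Subgroup.centralizer T := ⟨x, hmemX⟩
  have hX : ∀ u u' : uSub h, cA u' = ω * cA u → cB u' = cB u → X * ι u = ι u' * X :=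
    fun u u' ea eb => Subtype.ext (hxu u u' ea eb)
  have hX5 : X ^ 5 = 1 := by
    refine Subtype.ext (Subtype.ext (Subtype.ext ?_))
    show (Matrix.diagonal w) ^ 5 = 1
    rw [Matrix.diagonal_pow, ← Matrix.diagonal_one]
    exact congrArg _ (funext hw5)
  have hcm : ∀ z u : uSub h, cA z = 0 → ι z * ι u = ι u * ι z := fun z u hz => by
    rw [← map_mul, ← map_mul, commute_of_cA_zero hz]
  have hzX : ∀ z : uSub h, cA z = 0 → ι z * X = X * ι z := fun z hz =>
    (hX z z (by rw [hz, mul_zero]) rfl).symm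
  let D : Data (Subgroup.centralizer T) :=
    { v0 := ι v0, v1 := ι v1, v2 := ι v2, v3 := ι v3, z1 := ι z1, z2 := ι z2, x := X
      comm1 := by
        intro u hu
        simp only [List.mem_cons, List.not_mem_nil, or_false] at hu
        rcases hu with rfl | rfl | rfl | rfl | rfl | rfl
        all_goals first
          | exact hcm z1 _ hz1
          | exact hzX z1 hz1
      comm2 := by
        intro u hu
        simp only [List.mem_cons, List.not_mem_nil, or_false] at hu
        rcases hu with rfl | rfl | rfl | rfl | rfl | rfl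
        all_goals first
          | exact hcm z2 _ hz2
          | exact hzX z2 hz2
      z1_sq := by rw [← map_mul, sq_eq_one_iff.2 hz1, map_one]
      z2_sq := by rw [← map_mul, sq_eq_one_iff.2 hz2, map_one]
      v_sq := by
        intro u hu
        simp only [List.mem_cons, List.not_mem_nil, or_false] at hu
        rcases hu with rfl | rfl | rfl | rfl <;>
          (rw [← map_mul, ← map_mul]; refine congrArg ι (coords_ext ?_ ?_) <;>
            simp only [(coords_mul _ _).1, (coords_mul _ _).2, hv0, hv1, hv2, hv3, hz1, hz2, hv0',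
              hv1', hv2', hv3', hz1', hz2'] <;> grind)
      r10 := by
        rw [← map_mul, ← map_mul, ← map_mul]; refine congrArg ι (coords_ext ?_ ?_) <;>
          simp only [(coords_mul _ _).1, (coords_mul _ _).2, hv0, hv1, hz1, hv0', hv1', hz1'] <;> grind
      r20 := by
        rw [← map_mul, ← map_mul, ← map_mul]; refine congrArg ι (coords_ext ?_ ?_) <;>
          simp only [(coords_mul _ _).1, (coords_mul _ _).2, hv0, hv2, hz2, hv0', hv2', hz2'] <;> grind
      r30 := by
        rw [← map_mul, ← map_mul, ← map_mul]; refine congrArg ι (coords_ext ?_ ?_) <;>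
          simp only [(coords_mul _ _).1, (coords_mul _ _).2, hv0, hv3, hz2, hv0', hv3', hz2'] <;> grind
      r21 := by
        rw [← map_mul, ← map_mul, ← map_mul]; refine congrArg ι (coords_ext ?_ ?_) <;>
          simp only [(coords_mul _ _).1, (coords_mul _ _).2, hv1, hv2, hz1, hv1', hv2', hz1'] <;> grind
      r31 := by
        rw [← map_mul, ← map_mul, ← map_mul]; refine congrArg ι (coords_ext ?_ ?_) <;>
          simp only [(coords_mul _ _).1, (coords_mul _ _).2, hv1, hv3, hz2, hv1', hv3', hz2'] <;> grind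
      r32 := by
        rw [← map_mul, ← map_mul, ← map_mul]; refine congrArg ι (coords_ext ?_ ?_) <;>
          simp only [(coords_mul _ _).1, (coords_mul _ _).2, hv2, hv3, hz1, hv2', hv3', hz1'] <;> grind
      x0 := hX _ _ (by rw [hv0, hv1, mul_one]) (by rw [hv0', hv1'])
      x1 := hX _ _ (by rw [hv1, hv2, sq]) (by rw [hv1', hv2'])
      x2 := hX _ _ (by rw [hv2, hv3, ← pow_succ']) (by rw [hv2', hv3'])
      x3 := by
        rw [← map_mul, ← map_mul, ← map_mul]
        refine hX _ _ ?_ ?_ <;>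
          simp only [(coords_mul _ _).1, (coords_mul _ _).2, hv0, hv1, hv2, hv3, hv0', hv1', hv2',
            hv3'] <;> grind
      x_pow := hX5 }
  refine ⟨t, ?_, D, ?_⟩
  · refine orderOf_eq_prime ?_ ?_
    · rw [pow_two]
      exact congrArg Subtype.val (sq_eq_one_iff.2 ht)
    · intro e
      have e' : t = 1 := Subtype.ext e
      rw [e', coords_one.2] at ht'
      exact zero_ne_one ht'
  refine Function.Injective.bijective_of_nat_card_le ?_ ?_
  swap
  · exact (card_centralizer_le h ht ht').trans_eq (by simp [Nat.card_eq_fintype_card])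
  -- injectivity of the normal form
  let su : Six → uSub h := fun ⟨a, b, c, d, e, f⟩ =>
    bit v0 a * bit v1 b * bit v2 c * bit v3 d * bit z1 e * bit z2 f
  have hsu : ∀ r, D.six r = ι (su r) := fun ⟨a, b, c, d, e, f⟩ => by
    simp only [Data.six, su, map_mul, ← bit_map, D]
  rintro ⟨r, k⟩ ⟨r', k'⟩ e
  simp only [Data.word, hsu] at e
  have hxk : ∀ (k : ℕ) (u : uSub h),
      ((ι u * X ^ k : Subgroup.centralizer T) : Cfsg.SU 3 F 4).1.1 =
        u.1.1.1 * Matrix.diagonal fun i => w i ^ k := by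
    intro k u
    rw [show (fun i => w i ^ k) = w ^ k from rfl, ← Matrix.diagonal_pow]
    rfl
  have hk : k = k' := by
    have e22 := congrArg (fun c : Subgroup.centralizer T => (c : Cfsg.SU 3 F 4).1.1 2 2) e
    simp only [show D.x = X from rfl, hxk, Matrix.mul_diagonal, (coords_spec _).2] at e22
    simp [uMat, w, ← pow_mul] at e22
    have e4 := congrArg (· ^ 4) e22
    simp only [← pow_mul] at e4
    rw [(orderOf_pos_iff.1 (by omega) : IsOfFinOrder ω).pow_eq_pow_iff_modEq, hω] at e4
    unfold Nat.ModEq at e4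
    exact Fin.ext (by omega)
  subst hk
  have hsu_inj : su r = su r' := hι (mul_right_cancel e)
  obtain ⟨a, b, c, d, e₁, f⟩ := r
  obtain ⟨a', b', c', d', e₁', f'⟩ := r'
  have hβ : ∀ i j, (β (xor i j) : F) = β i + β j := by
    intro i j
    cases i <;> cases j <;> simp [β, h.add_self]
  have hbA : ∀ (u : uSub h) (i : Bool), cA (bit u i) = β i * cA u := by
    intro u i
    cases i <;> simp [bit, β, coords_one.1]
  have hbB : ∀ (u : uSub h) (i : Bool), cB (bit u i) = β i * cB u := by
    intro u i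
    cases i <;> simp [bit, β, coords_one.2]
  have hA := congrArg cA hsu_inj
  simp only [su, (coords_mul _ _).1, hbA, hv0, hv1, hv2, hv3, hz1, hz2, mul_one, mul_zero,
    add_zero] at hA
  obtain ⟨ha, hb, hc, hd⟩ := indep_A h2 hω4 (xor a a') (xor b b') (xor c c') (xor d d') (by
    simp only [hβ]
    linear_combination hA + (β a' + β b' * ω + β c' * ω ^ 2 + β d' * ω ^ 3) * h2)
  rw [bne_eq_false_iff_eq] at ha hb hc hd
  subst ha hb hc hd
  have hz : bit z1 e₁ * bit z2 f = bit z1 e₁' * bit z2 f' :=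
    mul_left_cancel (a := bit v0 a * bit v1 b * bit v2 c * bit v3 d) (by
      simp only [← mul_assoc]; exact hsu_inj)
  have hB := congrArg cB hz
  simp only [(coords_mul _ _).2, hbA, hbB, hz1, hz2, hz1', hz2', mul_zero, hq, add_zero] at hB
  obtain ⟨he, hf⟩ := indep_B h2 hω4 (xor e₁ e₁') (xor f f') (by
    simp only [hβ]
    linear_combination hB + (β e₁' * (ω + ω ^ 4) + β f' * (ω ^ 2 + ω ^ 3)) * h2)
  rw [bne_eq_false_iff_eq] at he hf
  subst he hf
  rfl

end CfsgLib.ThreeTwenty
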